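import Groth.Agent.L05.TraceSplit.Basic
import Groth.Agent.L05.RatPow.MaxModif
import Groth.Agent.L05.PtSeq.Dominate
import Groth.Agent.L01.NagataAdjoin
import Mathlib.RingTheory.Localization.Integral

/-! Modifications of a base whose finite extension has rational singularities. -/

set_option autoImplicit false
set_option linter.style.haveILetI false
set_option maxHeartbeats 1000000
set_option backward.isDefEq.respectTransparency false
set_option backward.isDefEq.respectTransparency.types false

universe u

open CategoryTheory CategoryTheory.Limits AlgebraicGeometry TopologicalSpace Opposite TensorProduct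

noncomputable section

namespace Groth.L05.TraceSplit

variable {A B : Type u} [CommRing A] [CommRing B] [IsDomain A] [IsDomain B]

/-- The functions of the base in the function field of a scheme over it. -/
def baseToFF {Y : Scheme.{u}} [IsIntegral Y] (f : Y ⟶ Spec (CommRingCat.of A)) : A →+* Y.functionField :=
  (Y.presheaf.germ ⊤ (genericPoint Y) trivial).hom.comp (Coh.toGlobal f)

/-- A modification has the fraction field as function field. -/
theorem isFractionRing_baseToFF {Y : Scheme.{u}} [IsIntegral Y] (f : Y ⟶ Spec (CommRingCat.of A))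
    (hbir : Groth.L05.MinDesing.IsBir f) :
    letI := (baseToFF f).toAlgebra; IsFractionRing A Y.functionField := by
  letI := (baseToFF f).toAlgebra
  obtain ⟨U, hU, hiso⟩ := hbir
  haveI := hiso
  obtain ⟨e, he⟩ := Groth.L05.PtSeq.ffMap_bijective f U hU
  letI : Algebra A (Spec (CommRingCat.of A)).functionField :=
    RingHom.toAlgebra (StructureSheaf.toStalk A (genericPoint (Spec (CommRingCat.of A)))).hom
  haveI : IsDomain (CommRingCat.of A) := ‹IsDomain A›
  haveI : IsFractionRing A (Spec (CommRingCat.of A)).functionField :=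
    functionField_isFractionRing_of_affine (CommRingCat.of A)
  let E : (Spec (CommRingCat.of A)).functionField ≃+* Y.functionField := RingEquiv.ofBijective _ he
  refine IsLocalization.isLocalization_of_algEquiv (nonZeroDivisors A)
    (AlgEquiv.ofRingEquiv (f := E) fun a => ?_ : (Spec (CommRingCat.of A)).functionField ≃ₐ[A] Y.functionField)
  show Groth.L21.Curve.ffMap f e _ = baseToFF f a
  have h := ffMap_germ f e (U := ⊤) trivial ((Scheme.ΓSpecIso (CommRingCat.of A)).inv a)
  exact h

/-- The dominant part of a modification, as a closed subscheme. -/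
theorem exists_main_component' {X Y : Scheme.{u}} [IsIntegral X] (f : Y ⟶ X) [IsProper f] (V : X.Opens)
    (hne : (V : Set X).Nonempty) (hf : IsIso (f ∣_ V)) :
    ∃ (Y₀ : Scheme.{u}) (ι : Y₀ ⟶ Y) (_ : IsIntegral Y₀) (_ : IsClosedImmersion ι), IsIso ((ι ≫ f) ∣_ V) := by
  haveI := hf
  have hξ : genericPoint X ∈ V := (genericPoint_spec X).mem_open_set_iff V.2 |>.2 (by simpa using hne)
  haveI : Nonempty V := ⟨⟨_, hξ⟩⟩
  haveI : IsIntegral (V : Scheme.{u}) := isIntegral_of_isOpenImmersion V.ι
  haveI : Nonempty (f ⁻¹ᵁ V : Y.Opens) := ⟨(f ∣_ V).homeomorph.symm ⟨_, hξ⟩⟩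
  haveI : IsIntegral ((f ⁻¹ᵁ V : Y.Opens) : Scheme.{u}) := isIntegral_of_isOpenImmersion (f ∣_ V)
  obtain ⟨Y₀, ι, hint, hι, hr, -⟩ := Groth.L05.PtSeq.exists_closure_subscheme
    ((f ⁻¹ᵁ V).ι (genericPoint ((f ⁻¹ᵁ V : Y.Opens) : Scheme.{u})))
  haveI := hι; haveI := hint
  refine ⟨Y₀, ι, hint, hι, ?_⟩
  haveI : IsClosedImmersion (ι ∣_ (f ⁻¹ᵁ V)) :=
    MorphismProperty.of_isPullback (isPullback_morphismRestrict ι (f ⁻¹ᵁ V)).flip ‹IsClosedImmersion ι›
  haveI : Surjective (ι ∣_ (f ⁻¹ᵁ V)) := ⟨fun y => by
    obtain ⟨y₀, hy₀⟩ : (f ⁻¹ᵁ V).ι y ∈ Set.range ι := by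
      rw [hr]
      exact specializes_iff_mem_closure.1 ((genericPoint_specializes y).map (f ⁻¹ᵁ V).ι.continuous)
    refine ⟨⟨y₀, show ι y₀ ∈ f ⁻¹ᵁ V from hy₀ ▸ y.2⟩, ?_⟩
    apply (f ⁻¹ᵁ V).ι.isOpenEmbedding.injective
    rw [← Scheme.Hom.comp_apply, morphismRestrict_ι, Scheme.Hom.comp_apply]
    exact hy₀⟩
  haveI : IsIso (ι ∣_ (f ⁻¹ᵁ V)) := isIso_of_isClosedImmersion_of_surjective _
  rw [morphismRestrict_comp]
  infer_instance

/-- The normalised main component of the base change of a modification to a finite extension. -/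
theorem exists_finite_cover [Algebra A B] [Module.Finite A B] (hN : CAlg.IsNagata B) [IsNoetherianRing B]
    (hinj : Function.Injective (algebraMap A B)) {Y : Scheme.{u}} [IsIntegral Y]
    (f : Y ⟶ Spec (CommRingCat.of A)) [IsProper f] (hbir : Groth.L05.MinDesing.IsBir f) :
    ∃ (Z : Scheme.{u}) (π : Z ⟶ Y) (g : Z ⟶ Spec (CommRingCat.of B)) (_ : IsIntegral Z), IsFinite π ∧ IsProper g ∧
      Pi1.IsNormalScheme Z ∧ Groth.L05.MinDesing.IsBir g ∧
      π ≫ f = g ≫ Spec.map (CommRingCat.ofHom (algebraMap A B)) ∧ π (genericPoint Z) = genericPoint Y := by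
  let β := Spec.map (CommRingCat.ofHom (algebraMap A B))
  haveI : IsFinite β := (HasAffineProperty.SpecMap_iff_of_affineAnd (P := @IsFinite) inferInstance
    RingHom.finite_respectsIso _).2 (RingHom.finite_algebraMap.2 inferInstance)
  obtain ⟨U, hU, hiso⟩ := hbir
  haveI := hiso
  have hsq : IsPullback (pullback.fst f β) (pullback.snd f β) f β := IsPullback.of_hasPullback f β
  have hiso' : IsIso (pullback.snd f β ∣_ (β ⁻¹ᵁ U)) :=
    Groth.L13.Nagata.isIso_restrict_of_isPullback hsq U _ fun _ h => h
  have hηA : genericPoint (Spec (CommRingCat.of A)) ∈ U := Groth.L05.MinDesing.genericPoint_mem hU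
  have hβ : β (genericPoint (Spec (CommRingCat.of B))) = genericPoint (Spec (CommRingCat.of A)) := by
    rw [genericPoint_eq_bot_of_affine, genericPoint_eq_bot_of_affine]
    exact PrimeSpectrum.ext (Ideal.comap_bot_of_injective _ hinj)
  have hVne : ((β ⁻¹ᵁ U : (Spec (CommRingCat.of B)).Opens) : Set (Spec (CommRingCat.of B))).Nonempty :=
    ⟨genericPoint _, by show β _ ∈ U; rw [hβ]; exact hηA⟩
  haveI : IsProper (pullback.snd f β) := MorphismProperty.of_isPullback hsq inferInstance
  haveI : IsFinite (pullback.fst f β) := MorphismProperty.of_isPullback hsq.flip inferInstance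
  obtain ⟨W, ι, hW, hι, hWiso⟩ := exists_main_component' (pullback.snd f β) _ hVne hiso'
  haveI := hW
  haveI := hι
  haveI : IsLocallyNoetherian W := LocallyOfFiniteType.isLocallyNoetherian (ι ≫ pullback.snd f β)
  haveI : CompactSpace W := QuasiCompact.compactSpace_of_compactSpace (ι ≫ pullback.snd f β)
  have hNW := Groth.L05.PtSeq.isNagata_affineOpens_of_lft (ι ≫ pullback.snd f β) (Groth.L05.RatPow.isNagata_opens_spec hN)
  haveI := Groth.L22.Norm.isFinite_normalizationι W hNW
  obtain ⟨hi, hn, -, -⟩ := Groth.Agent.S2351.result W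
  haveI := hi
  haveI : IsFinite (ι ≫ pullback.fst f β) := inferInstance
  let g := Curv2.normalizationι W ≫ ι ≫ pullback.snd f β
  have hg : Groth.L05.MinDesing.IsBir g := Groth.L05.MinDesing.isBir_comp _ _
    (Groth.L22.BM.exists_isIso_normalizationι W) ⟨_, hVne, hWiso⟩
  refine ⟨_, Curv2.normalizationι W ≫ ι ≫ pullback.fst f β, g, hi, inferInstance, inferInstance, hn, hg, ?_, ?_⟩
  · simp only [g, Category.assoc, pullback.condition]
    rfl
  · obtain ⟨T, hT, hTi⟩ := hg
    haveI := hTi
    obtain ⟨eg, -⟩ := Groth.L05.PtSeq.ffMap_bijective g T hT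
    set z := genericPoint (Curv2.normalization W)
    set y := (Curv2.normalizationι W ≫ ι ≫ pullback.fst f β) z
    have hy : f y = genericPoint (Spec (CommRingCat.of A)) := by
      show f ((Curv2.normalizationι W ≫ ι ≫ pullback.fst f β) z) = _
      rw [← Scheme.Hom.comp_apply, show (Curv2.normalizationι W ≫ ι ≫ pullback.fst f β) ≫ f = g ≫ β by
        simp only [g, Category.assoc, pullback.condition], Scheme.Hom.comp_apply]
      exact (congrArg β eg).trans hβ
    obtain ⟨ef, -⟩ := Groth.L05.PtSeq.ffMap_bijective f U hU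
    exact congrArg Subtype.val ((f ∣_ U).homeomorph.injective
      (a₁ := ⟨y, show f y ∈ U by rw [hy]; exact hηA⟩) (a₂ := ⟨genericPoint Y, show f _ ∈ U by rw [ef]; exact hηA⟩)
      (Subtype.ext ((morphismRestrict_base_coe f U ⟨y, show f y ∈ U by rw [hy]; exact hηA⟩).trans
        ((hy.trans ef.symm).trans
          (morphismRestrict_base_coe f U ⟨genericPoint Y, show f _ ∈ U by rw [ef]; exact hηA⟩).symm))))

/-- Modifications of a scheme with rational local rings have no first cohomology. -/
theorem subsingleton_HH_of_local [IsNoetherianRing B] [IsIntegrallyClosed B]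
    (hB : ∀ (n : Ideal B) [n.IsMaximal], Curv2.IsRationalSing (Localization.AtPrime n))
    {Z : Scheme.{u}} [IsIntegral Z] (g : Z ⟶ Spec (CommRingCat.of B)) [IsProper g] (hn : Pi1.IsNormalScheme Z)
    (hbir : Groth.L05.MinDesing.IsBir g) : Subsingleton (Coh.HH Z (Coh.structureModule Z) 1) := by
  letI : Module B (Coh.HH Z (Coh.structureModule Z) 1) := Module.compHom _ (Coh.toGlobal g)
  haveI : IsLocallyNoetherian Z := LocallyOfFiniteType.isLocallyNoetherian g
  haveI : Coh.IsQCoh (Coh.structureModule Z) := Groth.L16.CohClosedPush.isCoh_structure.1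
  refine Module.subsingleton_of_localization_maximal
    (fun (P : Ideal B) (_ : P.IsMaximal) => Localization.AtPrime P ⊗[B] Coh.HH Z (Coh.structureModule Z) 1)
    (fun P _ => TensorProduct.mk B (Localization.AtPrime P) (Coh.HH Z (Coh.structureModule Z) 1) 1) fun P _ => ?_
  let q : Spec (CommRingCat.of B) := (⟨P, inferInstance⟩ : PrimeSpectrum B)
  let eq' : Localization.AtPrime P ≃+* (Spec (CommRingCat.of B)).presheaf.stalk q :=
    (Spec.stalkIso (CommRingCat.of B) q).commRingCatIsoToRingEquiv.symm
  haveI : IsDomain (Localization.AtPrime P) := IsLocalization.isDomain_localization P.primeCompl_le_nonZeroDivisors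
  haveI : IsDomain ((Spec (CommRingCat.of B)).presheaf.stalk q) := eq'.symm.injective.isDomain eq'.symm.toRingHom
  obtain ⟨hi₁, hp₁, hn₁, hb₁, -⟩ := Groth.L05.RatSpread.localModification g hn hbir q
  have hrat := Groth.L05.RatSpread.isRationalSing_of_equiv eq' (hB P)
  have h0 := hrat _ _ hp₁ hi₁ hn₁ hb₁
  letI : Algebra B ((Spec (CommRingCat.of B)).presheaf.stalk q) :=
    (StructureSheaf.toStalk B q).hom.toAlgebra
  haveI : IsLocalization.AtPrime ((Spec (CommRingCat.of B)).presheaf.stalk q) P :=
    StructureSheaf.IsLocalization.to_stalk B q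
  haveI : Module.Flat B ((Spec (CommRingCat.of B)).presheaf.stalk q) := IsLocalization.flat _ P.primeCompl
  have hfs : (Spec (CommRingCat.of B)).fromSpecStalk q =
      Spec.map (CommRingCat.ofHom (algebraMap B ((Spec (CommRingCat.of B)).presheaf.stalk q))) :=
    Spec.fromSpecStalk_eq _ q
  obtain ⟨E⟩ := Groth.L16.Rees.exists_flat_bc_equiv (B := (Spec (CommRingCat.of B)).presheaf.stalk q) g
    (pullback.snd g ((Spec (CommRingCat.of B)).fromSpecStalk q))
    (pullback.fst g ((Spec (CommRingCat.of B)).fromSpecStalk q))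
    (hfs ▸ IsPullback.of_hasPullback _ _) (Coh.structureModule Z) 1
  haveI := h0
  haveI : Subsingleton (Coh.HH (pullback g ((Spec (CommRingCat.of B)).fromSpecStalk q) : Scheme.{u})
      ((Scheme.Modules.pullback (pullback.fst g ((Spec (CommRingCat.of B)).fromSpecStalk q))).obj (Coh.structureModule Z)) 1) :=
    Function.Surjective.subsingleton
      (f := Groth.L16.CohLinear.hmap (Groth.L29.LocFree.pullbackUnitIso _).inv 1)
      fun v => ⟨Groth.L16.CohLinear.hmap (Groth.L29.LocFree.pullbackUnitIso _).hom 1 v, by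
        rw [← Groth.L16.CohLinear.hmap_comp, Iso.hom_inv_id, Groth.L16.CohLinear.hmap_id]⟩
  haveI : Subsingleton ((Spec (CommRingCat.of B)).presheaf.stalk q ⊗[B] Coh.HH Z (Coh.structureModule Z) 1) :=
    E.toEquiv.subsingleton
  exact (TensorProduct.congr (IsLocalization.algEquiv P.primeCompl (Localization.AtPrime P)
    ((Spec (CommRingCat.of B)).presheaf.stalk q)).toLinearEquiv (LinearEquiv.refl B _)).toEquiv.subsingleton

/-- The degree kills the first cohomology of a modification below rational local rings. -/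
theorem degree_nsmul_eq_zero [Algebra A B] [Module.Finite A B] [IsNoetherianRing A] [IsNoetherianRing B]
    [IsIntegrallyClosed B] (hN : CAlg.IsNagata B) (hinj : Function.Injective (algebraMap A B))
    (K L : Type u) [Field K] [Field L] [Algebra A K] [IsFractionRing A K] [Algebra B L] [IsFractionRing B L]
    [Algebra K L] [Algebra A L] [IsScalarTower A K L] [IsScalarTower A B L]
    (hB : ∀ (n : Ideal B) [n.IsMaximal], Curv2.IsRationalSing (Localization.AtPrime n))
    {Y : Scheme.{u}} [IsIntegral Y] (f : Y ⟶ Spec (CommRingCat.of A)) [IsProper f] (hn : Pi1.IsNormalScheme Y)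
    (hbir : Groth.L05.MinDesing.IsBir f) (x : Coh.HH Y (Coh.structureModule Y) 1) :
    Module.finrank K L • x = 0 := by
  rcases Nat.eq_zero_or_pos (Module.finrank K L) with h0 | hpos
  · rw [h0, zero_smul]
  haveI : FiniteDimensional K L := Module.finite_of_finrank_pos hpos
  obtain ⟨Z, π, g, hZ, hπ, hg, hZn, hgb, hsq, hgen⟩ := exists_finite_cover hN hinj f hbir
  haveI := hZ
  haveI := hπ
  haveI := hg
  haveI : IsLocallyNoetherian Z := LocallyOfFiniteType.isLocallyNoetherian g
  have hH := subsingleton_HH_of_local hB g hZn hgb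
  letI algY : Algebra A Y.functionField := (baseToFF f).toAlgebra
  letI algZ : Algebra B Z.functionField := (baseToFF g).toAlgebra
  haveI : IsFractionRing A Y.functionField := isFractionRing_baseToFF f hbir
  haveI : IsFractionRing B Z.functionField := isFractionRing_baseToFF g hgb
  letI := (Groth.L21.Curve.ffMap π hgen).toAlgebra
  let eK : K ≃ₐ[A] Y.functionField := IsLocalization.algEquiv (nonZeroDivisors A) _ _
  let eL : L ≃ₐ[B] Z.functionField := IsLocalization.algEquiv (nonZeroDivisors B) _ _
  have hcomm : (algebraMap Y.functionField Z.functionField).comp eK.toRingEquiv.toRingHom =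
      eL.toRingEquiv.toRingHom.comp (algebraMap K L) := by
    refine IsLocalization.ringHom_ext (nonZeroDivisors A) (RingHom.ext fun a => ?_)
    show Groth.L21.Curve.ffMap π hgen (eK (algebraMap A K a)) = eL (algebraMap K L (algebraMap A K a))
    rw [eK.commutes, ← IsScalarTower.algebraMap_apply A K L, IsScalarTower.algebraMap_apply A B L, eL.commutes]
    show Groth.L21.Curve.ffMap π hgen (Y.presheaf.germ ⊤ (genericPoint Y) trivial (Coh.toGlobal f a)) =
      Z.presheaf.germ ⊤ (genericPoint Z) trivial (Coh.toGlobal g (algebraMap A B a))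
    refine (ffMap_germ π hgen (U := ⊤) trivial _).trans ?_
    have h1 : π.app ⊤ (Coh.toGlobal f a) = Coh.toGlobal g (algebraMap A B a) := by
      have h2 : (π ≫ f).appTop = (g ≫ Spec.map (CommRingCat.ofHom (algebraMap A B))).appTop := by rw [hsq]
      have h3 := congr($h2 ((Scheme.ΓSpecIso (CommRingCat.of A)).inv a))
      refine h3.trans ?_
      exact congrArg g.appTop
        congr($(Scheme.ΓSpecIso_inv_naturality (CommRingCat.ofHom (algebraMap A B))) a).symm
    exact congrArg _ h1
  have hrank : Module.finrank K L = Module.finrank Y.functionField Z.functionField :=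
    Algebra.finrank_eq_of_equiv_equiv eK.toRingEquiv eL.toRingEquiv hcomm
  haveI : FiniteDimensional Y.functionField Z.functionField := Module.finite_of_finrank_pos (hrank ▸ hpos)
  rw [hrank]
  exact nsmul_eq_zero π hgen (fun y => (hn y).2) inferInstance hH x

end Groth.L05.TraceSplit

namespace Groth.L05.TraceSplit

theorem le_one_of_le_two {d : WithBot ℕ∞} (h : d ≤ 2) (h2 : d ≠ 2) : d ≤ 1 := by
  have hlt := lt_of_le_of_ne h h2
  rcases d with _ | d
  · exact bot_le
  · exact WithBot.coe_le_coe.2 (Order.le_of_lt_succ (by simpa [one_add_one_eq_two] using WithBot.coe_lt_coe.1 hlt))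

end Groth.L05.TraceSplit
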