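import Groth.Agent.L19.NormalSections
import Groth.Agent.L12.FinCov.Basis
import Groth.Agent.L21.Curve.BirationalOpen
import Groth.Agent.L21.RR.Coh
import Groth.Agent.L17.AffinePush
import Groth.Agent.L16.CohClosedPush
import Groth.Prelude.Def_ClSub2
import Mathlib.RingTheory.Trace.Basic

/-! The trace of an integral dominant morphism to a normal scheme. -/

set_option autoImplicit false
set_option linter.style.haveILetI false
set_option maxHeartbeats 1000000
set_option backward.isDefEq.respectTransparency false
set_option backward.isDefEq.respectTransparency.types false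

universe u

open CategoryTheory CategoryTheory.Limits AlgebraicGeometry TopologicalSpace Opposite

noncomputable section

namespace Groth.L05.TraceSplit

variable {X Y : Scheme.{u}} [IsIntegral X] [IsIntegral Y] (π : Y ⟶ X) (e : π (genericPoint Y) = genericPoint X)

theorem genericPoint_mem {Z : Scheme.{u}} [IsIntegral Z] {U : Z.Opens} {z : Z} (hz : z ∈ U) : genericPoint Z ∈ U :=
  ((genericPoint_spec Z).specializes trivial).mem_open U.2 hz

include e in
theorem genericPoint_mem_preimage {U : X.Opens} (hU : genericPoint X ∈ U) : genericPoint Y ∈ π ⁻¹ᵁ U := by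
  show π _ ∈ U
  rw [e]; exact hU

theorem ffMap_germ {U : X.Opens} (hU : genericPoint X ∈ U) (a : Γ(X, U)) :
    Groth.L21.Curve.ffMap π e (X.presheaf.germ U (genericPoint X) hU a) =
      Y.presheaf.germ (π ⁻¹ᵁ U) (genericPoint Y) (genericPoint_mem_preimage π e hU) (π.app U a) := by
  show π.stalkMap (genericPoint Y) (X.presheaf.stalkSpecializes (specializes_of_eq e) _) = _
  rw [TopCat.Presheaf.germ_stalkSpecializes_apply, Scheme.Hom.germ_stalkMap_apply]

/-- The trace of a section at the generic point. -/
def trGen (U : X.Opens) (hU : genericPoint X ∈ U) (s : Γ(Y, π ⁻¹ᵁ U)) : X.functionField :=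
  letI := (Groth.L21.Curve.ffMap π e).toAlgebra
  Algebra.trace X.functionField Y.functionField
    (Y.presheaf.germ (π ⁻¹ᵁ U) (genericPoint Y) (genericPoint_mem_preimage π e hU) s)

theorem trGen_add (U : X.Opens) (hU : genericPoint X ∈ U) (s t : Γ(Y, π ⁻¹ᵁ U)) :
    trGen π e U hU (s + t) = trGen π e U hU s + trGen π e U hU t := by
  letI := (Groth.L21.Curve.ffMap π e).toAlgebra
  simp only [trGen, map_add]

theorem trGen_mul (U : X.Opens) (hU : genericPoint X ∈ U) (r : Γ(X, U)) (s : Γ(Y, π ⁻¹ᵁ U)) :
    trGen π e U hU (π.app U r * s) = X.presheaf.germ U (genericPoint X) hU r * trGen π e U hU s := by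
  letI := (Groth.L21.Curve.ffMap π e).toAlgebra
  simp only [trGen, map_mul, ← ffMap_germ π e hU r]
  exact (map_smul (Algebra.trace X.functionField Y.functionField) (X.presheaf.germ U (genericPoint X) hU r) _)

theorem trGen_res {U V : X.Opens} (h : V ≤ U) (hV : genericPoint X ∈ V) (s : Γ(Y, π ⁻¹ᵁ U)) :
    trGen π e V hV (Y.presheaf.map (homOfLE (π.preimage_mono h)).op s) = trGen π e U (h hV) s := by
  simp only [trGen, TopCat.Presheaf.germ_res_apply]

variable [IsIntegralHom π] (hN : ∀ x : X, IsIntegrallyClosed (X.presheaf.stalk x))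
  (hfd : letI := (Groth.L21.Curve.ffMap π e).toAlgebra; FiniteDimensional X.functionField Y.functionField)

include hN hfd in
theorem exists_unique_trace (U : X.Opens) (s : Γ(Y, π ⁻¹ᵁ U)) :
    ∃! t : Γ(X, U), ∀ hU : genericPoint X ∈ U, X.presheaf.germ U (genericPoint X) hU t = trGen π e U hU s := by
  by_cases hU : genericPoint X ∈ U
  · suffices h : ∃ t : Γ(X, U), X.presheaf.germ U (genericPoint X) hU t = trGen π e U hU s by
      obtain ⟨t, ht⟩ := h
      exact ⟨t, fun _ => ht, fun t' ht' => germ_injective_of_isIntegral X (genericPoint X) hU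
        ((ht' hU).trans ht.symm)⟩
    have key : ∀ x : U, ∃ (N : X.Opens) (_ : x.1 ∈ N) (hg : genericPoint X ∈ N) (_ : N ≤ U)
        (t : Γ(X, N)), X.presheaf.germ N (genericPoint X) hg t = trGen π e U hU s := fun x => by
      obtain ⟨W, hW, hxW, hWU⟩ := exists_isAffineOpen_mem_and_subset (x := x.1) (U := U) x.2
      have hWU' : W ≤ U := hWU
      have hηW := genericPoint_mem hxW
      letI := (Groth.L21.Curve.ffMap π e).toAlgebra
      haveI : FiniteDimensional X.functionField Y.functionField := hfd
      letI : Algebra Γ(X, W) X.functionField := (X.presheaf.germ W (genericPoint X) hηW).hom.toAlgebra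
      letI : Algebra Γ(X, W) Y.functionField :=
        ((Groth.L21.Curve.ffMap π e).comp (X.presheaf.germ W (genericPoint X) hηW).hom).toAlgebra
      haveI : IsScalarTower Γ(X, W) X.functionField Y.functionField := IsScalarTower.of_algebraMap_eq fun _ => rfl
      have hint : _root_.IsIntegral Γ(X, W) (Y.presheaf.germ (π ⁻¹ᵁ W) (genericPoint Y)
          (genericPoint_mem_preimage π e hηW) (Y.presheaf.map (homOfLE (π.preimage_mono hWU')).op s)) := by
        obtain ⟨p, hp, hp'⟩ := π.isIntegral_app W hW (Y.presheaf.map (homOfLE (π.preimage_mono hWU')).op s)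
        refine ⟨p, hp, ?_⟩
        have hc : algebraMap Γ(X, W) Y.functionField =
            (Y.presheaf.germ (π ⁻¹ᵁ W) (genericPoint Y) (genericPoint_mem_preimage π e hηW)).hom.comp (π.app W).hom :=
          RingHom.ext fun a => ffMap_germ π e hηW a
        rw [hc, ← Polynomial.hom_eval₂, hp', map_zero]
      obtain ⟨t, ht⟩ := Groth.L19.NormalSec.exists_section_of_isIntegral hN W hηW (RingHom.id _)
        (trGen π e W hηW (Y.presheaf.map (homOfLE (π.preimage_mono hWU')).op s))
        (by rw [RingHom.comp_id]; exact Algebra.isIntegral_trace (F := Y.functionField) hint)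
      exact ⟨W, hxW, hηW, hWU', t, ht.trans (trGen_res π e hWU' hηW s)⟩
    choose N hxN hgN hNU t ht using key
    have hcompat : TopCat.Presheaf.IsCompatible X.presheaf N t := fun i j => by
      apply germ_injective_of_isIntegral X (genericPoint X) (show genericPoint X ∈ N i ⊓ N j from ⟨hgN i, hgN j⟩)
      rw [TopCat.Presheaf.germ_res_apply, TopCat.Presheaf.germ_res_apply, ht, ht]
    obtain ⟨g, hg, -⟩ := TopCat.Sheaf.existsUnique_gluing' X.sheaf N U (fun i => homOfLE (hNU i))
      (fun x hx => Opens.mem_iSup.mpr ⟨⟨x, hx⟩, hxN ⟨x, hx⟩⟩) t hcompat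
    refine ⟨g, ?_⟩
    rw [← ht ⟨genericPoint X, hU⟩, ← hg ⟨genericPoint X, hU⟩]
    exact (TopCat.Presheaf.germ_res_apply X.presheaf _ _ _ g).symm
  · have hbot : U = ⊥ := Opens.ext (Set.eq_empty_of_forall_notMem fun x hx => hU (genericPoint_mem hx))
    haveI : Subsingleton Γ(X, U) := by rw [hbot]; infer_instance
    exact ⟨0, fun h => absurd h hU, fun _ _ => Subsingleton.elim _ _⟩

include hN hfd in
/-- The trace as a morphism of modules, splitting the unit up to the degree. -/
theorem exists_trace :
    ∃ τ : (Scheme.Modules.pushforward π).obj (Coh.structureModule Y) ⟶ Coh.structureModule X,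
      ClSub.unitToPush π ≫ τ =
        (letI := (Groth.L21.Curve.ffMap π e).toAlgebra; Module.finrank X.functionField Y.functionField) •
          𝟙 (Coh.structureModule X) := by
  choose φ hφ hu using exists_unique_trace π e hN hfd
  refine ⟨Groth.L12.FinCov.mkHom (M := (Scheme.Modules.pushforward π).obj (Coh.structureModule Y))
    (N := Coh.structureModule X) (fun U s => φ U s) (fun U s t => ?_) (fun U r s => ?_) (fun U V h s => ?_), ?_⟩
  · refine (hu U (s + t) (φ U s + φ U t) fun hU => ?_).symm
    refine (map_add (X.presheaf.germ U (genericPoint X) hU).hom _ _).trans ?_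
    rw [hφ U s hU, hφ U t hU]
    exact (trGen_add π e U hU s t).symm
  · refine (hu U (π.app U r * (show Γ(Y, π ⁻¹ᵁ U) from s)) (r * φ U s) fun hU => ?_).symm
    refine (map_mul (X.presheaf.germ U (genericPoint X) hU).hom _ _).trans ?_
    rw [hφ U s hU]
    exact (trGen_mul π e U hU r s).symm
  · refine (hu V (Y.presheaf.map (homOfLE (π.preimage_mono h)).op (show Γ(Y, π ⁻¹ᵁ U) from s))
      (X.presheaf.map (homOfLE h).op (φ U s)) fun hV => ?_).symm
    rw [TopCat.Presheaf.germ_res_apply, hφ U s (h hV)]
    exact (trGen_res π e h hV _).symm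
  · letI := (Groth.L21.Curve.ffMap π e).toAlgebra
    refine Groth.L12.FinCov.hom_ext fun U (a : Γ(X, U)) => ?_
    refine ((hu U (π.app U a) ((Module.finrank X.functionField Y.functionField : ℕ) • a) fun hU => ?_).symm.trans
      (?_ : _ = _))
    · refine (map_nsmul (X.presheaf.germ U (genericPoint X) hU).hom _ _).trans ?_
      show _ = Algebra.trace X.functionField Y.functionField _
      rw [← ffMap_germ π e hU a]
      exact (Algebra.trace_algebraMap _).symm
    · have hn : ∀ n : ℕ, (show Γ(X, U) from (n • 𝟙 (Coh.structureModule X)).app U a) = n • a := fun n => by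
        induction n with
        | zero => rw [zero_smul, zero_smul]; rfl
        | succ n ih =>
          rw [succ_nsmul, succ_nsmul]
          exact congrArg (· + a) ih
      exact (hn _).symm

include hN hfd in
/-- Classes killed by pulling back along a finite dominant map are killed by the degree. -/
theorem nsmul_eq_zero [IsLocallyNoetherian Y] (h : Subsingleton (Coh.HH Y (Coh.structureModule Y) 1))
    (x : Coh.HH X (Coh.structureModule X) 1) :
    (letI := (Groth.L21.Curve.ffMap π e).toAlgebra; Module.finrank X.functionField Y.functionField) • x = 0 := by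
  obtain ⟨τ, hτ⟩ := exists_trace π e hN hfd
  haveI : Coh.IsQCoh (Coh.structureModule Y) := Groth.L16.CohClosedPush.isCoh_structure.1
  obtain ⟨E⟩ := Groth.L17.nonempty_HH_push_of_isAffineHom π (Coh.structureModule Y) 1
  haveI := h
  haveI : Subsingleton (Coh.HH X ((Scheme.Modules.pushforward π).obj (Coh.structureModule Y)) 1) :=
    E.symm.toEquiv.subsingleton
  have hnat : ∀ n : ℕ, Groth.L16.CohLinear.hmap (n • 𝟙 (Coh.structureModule X)) 1 x = n • x := fun n => by
    induction n with
    | zero => rw [zero_smul, zero_smul]; exact Groth.L21.RR.hmap_zero _ _ _ _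
    | succ n ih => rw [succ_nsmul, succ_nsmul, Groth.L21.RR.hmap_add, ih, Groth.L16.CohLinear.hmap_id]
  rw [← hnat, ← hτ, Groth.L16.CohLinear.hmap_comp,
    Subsingleton.elim (Groth.L16.CohLinear.hmap (ClSub.unitToPush π) 1 x) 0, map_zero]

end Groth.L05.TraceSplit
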